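import Cfsg.Agent.H5.Ru.Over
import Cfsg.Agent.KFacts.Ru.InvC
import Cfsg.Agent.KFacts.Ru.Core

/-!
# `ℒ(G, T)` and `ℒ_f(G, T)` for the Rudvalis group (helper5)

`exists_ctx`: the configuration `Ctx` for every Sylow 2-subgroup; `row`, `row_lf`.
-/

set_option autoImplicit false

namespace Cfsg.Agent.H5.Ru.Row

open Subgroup Cfsg Cfsg.Agent.Ru127.Form Cfsg.Agent.Ru127.Basic Cfsg.Agent.Ru127.Count Cfsg.Agent.H5.Ru.Loc
  Cfsg.Agent.RuB Cfsg.Agent.RuB.Core Cfsg.Agent.RuB.NormZ Cfsg.Agent.RuB.NormQ Cfsg.Agent.KFacts.Ru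
open Cfsg.Agent.H5.Ru.Loc

variable {G : Type*} [Group G] [Finite G]

omit [Finite G] in
theorem ctx_conj {D : Set G} {𝒵 : Set (Subgroup G)} {P Z : Subgroup G} {z : G} (c : Ctx D 𝒵 P Z z) (g : G) :
    Ctx D 𝒵 (P.map (MulAut.conj g).toMonoidHom) (cj g Z) (g * z * g⁻¹) where
  L := c.L
  h5 := c.h5
  P2 := c.P2.map _
  hP := by
    rw [← c.hP]
    exact (Nat.card_congr (P.equivMapOfInjective _ (MulAut.conj g).injective).toEquiv).symm
  hZ := c.L.Z_conj _ c.hZ g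
  hz := by
    rw [mem_cj]
    have e : g⁻¹ * (g * z * g⁻¹) * g = z := by group
    rw [e]; exact c.hz
  hz1 := by
    intro h
    apply c.hz1
    calc z = g⁻¹ * (g * z * g⁻¹) * g := by group
      _ = 1 := by rw [h]; group
  comm := by
    rintro _ ⟨x, hx, rfl⟩
    show g * x * g⁻¹ * (g * z * g⁻¹) = g * z * g⁻¹ * (g * x * g⁻¹)
    calc g * x * g⁻¹ * (g * z * g⁻¹) = g * (x * z) * g⁻¹ := by group
      _ = g * (z * x) * g⁻¹ := by rw [c.comm x hx]
      _ = _ := by group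
  cent := by
    intro x hx
    refine ⟨g⁻¹ * x * g, c.cent ?_, by show g * (g⁻¹ * x * g) * g⁻¹ = x; group⟩
    rw [mem_centralizer_iff] at hx ⊢
    intro y hy
    have h1 := hx (g * y * g⁻¹) (by
      show g * y * g⁻¹ ∈ cj g Z
      rw [mem_cj]
      have e : g⁻¹ * (g * y * g⁻¹) * g = y := by group
      rwa [e])
    calc y * (g⁻¹ * x * g) = g⁻¹ * ((g * y * g⁻¹) * x) * g := by group
      _ = g⁻¹ * (x * (g * y * g⁻¹)) * g := by rw [h1]
      _ = _ := by group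
  nr := by
    rintro _ ⟨x, hx, rfl⟩
    show g * x * g⁻¹ ∈ Cfsg.Agent.Ru127.Form.nor (cj g Z)
    rw [mem_nor, Cfsg.Agent.Ru127.Form.cj_mul, cj_inv_cj, Cfsg.Agent.Ru127.Form.cj_mul, mem_nor.1 (c.nr x hx)]
  cen := by
    intro a ha
    have h1 := c.cen (g⁻¹ * a * g) (by
      intro x hx
      have h2 := ha (g * x * g⁻¹) ⟨x, hx, rfl⟩
      calc x * (g⁻¹ * a * g) = g⁻¹ * ((g * x * g⁻¹) * a) * g := by group
        _ = g⁻¹ * (a * (g * x * g⁻¹)) * g := by rw [h2]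
        _ = _ := by group)
    rcases h1 with h1 | h1
    · left
      calc a = g * (g⁻¹ * a * g) * g⁻¹ := by group
        _ = 1 := by rw [h1]; group
    · right
      rw [← h1]; group

theorem exists_ctx_of_core (C : Core G) (T : Sylow 2 G) :
    ∃ (Z : Subgroup G) (z : G), Ctx (Local.DD C) (Local.ZZ C) (T : Subgroup G) Z z := by
  obtain ⟨K, hν, hμ, g0, hg0, ht⟩ := QSyl.exists_coord_norm C
  have L : LocalData (Local.DD C) (Local.ZZ C) Cfsg.Agent.Ru127.Inst.R8 := Local.localData' hν hμ hg0 ht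
  have hcz := Local.cent_le K hμ
  have hz1 : C.z 1 ≠ 1 := fun h => one_ne_zero (C.z_eq_one h)
  obtain ⟨P, hPc, hPz, hPQ, hPn, hPcen⟩ := InvC.exists_sylow C
  have c0 : Ctx (Local.DD C) (Local.ZZ C) (P : Subgroup G) (Zs C) (C.z 1) :=
    { L := L
      h5 := InvC.card_sig C
      P2 := P.isPGroup'
      hP := hPc
      hZ := Local.Zs_mem_ZZ
      hz := z_mem_Zs 1
      hz1 := hz1
      comm := hPz
      cent := fun x hx => hPQ x ((Local.mem_cent_iff K hμ).1 hx)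
      nr := hPn
      cen := fun a ha => hPcen a ha }
  obtain ⟨g, hg⟩ := H4.LfTrans.exists_conj P T
  rw [hg]
  exact ⟨_, _, ctx_conj c0 g⟩

/-- **`Ru`: the members of `ℒ_f(G, T)`** -/
theorem row_lf {G : Type*} [Group G] [Finite G] (h : Spor.IsoRu G) (hE : IsOfEvenCharacteristic G) (T : Sylow 2 G)
    {L : Subgroup G} (hL : L ∈ calLf (T : Subgroup G)) :
    (T : Subgroup G) ≤ normalizer (L : Set G) ∧
      Nonempty ((L ⧸ pCore 2 L) ≃* Matrix.ProjectiveSpecialLinearGroup (Fin 3) (ZMod 2)) ∧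
      L ∈ calLfMax (T : Subgroup G) := by
  obtain ⟨t, s, w, f, d, y, hLe⟩ := exists_lets h
  have h31 : ¬ 31 ∣ Nat.card G := by rw [hLe.card]; norm_num
  obtain ⟨C, -⟩ := exists_core h
  obtain ⟨Z, z, c⟩ := exists_ctx_of_core C T
  obtain ⟨-, h1, -, h2, h3⟩ := Over.row_lf c h31 hE hL
  exact ⟨le_sup_right.trans h1, h2, h3⟩

/-- **`Ru`: the members of `ℒ(G, T)`** -/
theorem row {G : Type*} [Group G] [Finite G] (h : Spor.IsoRu G) (T : Sylow 2 G)
    {L : Subgroup G} (hL : L ∈ calL (T : Subgroup G)) :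
    (T : Subgroup G) ≤ normalizer (L : Set G) ∧
      (Nonempty ((L ⧸ pCore 2 L) ≃* Matrix.ProjectiveSpecialLinearGroup (Fin 3) (ZMod 2)) ∨
        Nonempty ((L ⧸ pCore 2 L) ≃* alternatingGroup (Fin 5))) := by
  obtain ⟨t, s, w, f, d, y, hLe⟩ := exists_lets h
  have h31 : ¬ 31 ∣ Nat.card G := by rw [hLe.card]; norm_num
  obtain ⟨C, -⟩ := exists_core h
  obtain ⟨Z, z, c⟩ := exists_ctx_of_core C T
  obtain ⟨h1, h2⟩ := Over.row_all c h31 hL
  refine ⟨le_sup_right.trans h1, ?_⟩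
  rcases h2 with ⟨-, -, h2⟩ | ⟨-, h2⟩
  · exact Or.inl h2
  · exact Or.inr h2

/-- **`Ru`: the 2-local overgroups of a Sylow 2-subgroup** lie in one of two subgroups `N(Z)`, `|Z| = 8`, and `C(z)`,
`z ∈ Z` a 2-central involution. -/
theorem exists_overgroups {G : Type*} [Group G] [Finite G] (h : Spor.IsoRu G) (T : Sylow 2 G) :
    ∃ (Z : Subgroup G) (z : G), Nat.card Z = 8 ∧ z ∈ Z ∧ z ≠ 1 ∧ Nat.card (normalizer (Z : Set G)) = 2 ^ 14 * 21 ∧
      Nat.card (centralizer ({z} : Set G)) = 2 ^ 14 * 15 ∧ (T : Subgroup G) ≤ normalizer (Z : Set G) ∧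
      (T : Subgroup G) ≤ centralizer {z} ∧
      ∀ H : Subgroup G, (T : Subgroup G) ≤ H → pCore 2 ↥H ≠ ⊥ → H ≤ normalizer (Z : Set G) ∨ H ≤ centralizer {z} := by
  obtain ⟨t, s, w, f, d, y, hLe⟩ := exists_lets h
  have h31 : ¬ 31 ∣ Nat.card G := by rw [hLe.card]; norm_num
  obtain ⟨C, -⟩ := exists_core h
  obtain ⟨Z, z, c⟩ := exists_ctx_of_core C T
  have hnn : Cfsg.Agent.Ru127.Form.nor Z = normalizer (Z : Set G) :=
    le_antisymm nor_le_normalizer (fun g hg => mem_nor_of_mem_normalizer hg)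
  refine ⟨Z, z, card_mem c.L c.hZ, c.hz, c.hz1, ?_, ?_, ?_, ?_, ?_⟩
  · rw [← hnn]; exact c.L.norm_card Z c.hZ
  · rw [Over.card_cz c]; norm_num
  · rw [← hnn]; exact c.nr
  · intro x hx
    exact mem_centralizer_singleton_iff.2 (c.comm x hx)
  · intro H hTH hH
    rcases Over.overgroup c h31 hTH hH with h1 | h1
    · exact Or.inl (h1.trans nor_le_normalizer)
    · exact Or.inr h1

end Cfsg.Agent.H5.Ru.Row
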