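import Cfsg.Agent.Ru127.Inst
import Cfsg.Agent.Ru127.Xi

/-!
# Subspaces of singular vectors outside the 24 vectors (Rudvalis configuration; helper5)

`card_le_four`: a subgroup of `W8` whose nonzero elements are singular and not in the set of the 24 vectors has order
at most 4.
-/

set_option autoImplicit false
set_option maxRecDepth 100000

namespace Cfsg.Agent.H5.Ru.Fin

open Cfsg.Agent.RuB Cfsg.Agent.Ru127.Form Cfsg.Agent.Ru127.Inst

/-- codes of the nonzero singular vectors outside `T` -/
def gd (n : ℕ) : Bool := (n != 0) && (qN n == 0) && !(inT n)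

def gl : List ℕ := (List.range 256).filter gd

def ck : Bool := gl.all fun x => gl.all fun y => x == y || !(gd (x ^^^ y)) || gl.all fun w =>
  w == x || w == y || w == (x ^^^ y) || !(gd (x ^^^ w)) || !(gd (y ^^^ w)) || !(gd (x ^^^ y ^^^ w))

theorem ck_true : ck = true := by decide +kernel

theorem gd_code {w : W8} (hq : q8 w = 0) (hT : ¬ ∃ i, w ∈ V8 i) : gd (code w) = true := by
  rw [V_iff, not_or] at hT
  have h1 : qN (code w) = 0 := by rw [← code_q, hq]; rfl
  have h2 : code w ≠ 0 := hT.1
  have h3 : inT (code w) = false := by simpa using hT.2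
  simp [gd, h1, h2, h3]

theorem mem_gl {w : W8} (h : gd (code w) = true) : code w ∈ gl := by
  rw [gl, List.mem_filter, List.mem_range]
  exact ⟨code_lt w, h⟩

/-- three independent vectors -/
theorem no_three {x y w : W8} (hx : gd (code x) = true) (hy : gd (code y) = true) (hw : gd (code w) = true)
    (hxy : gd (code (x + y)) = true) (hxw : gd (code (x + w)) = true) (hyw : gd (code (y + w)) = true)
    (hxyw : gd (code (x + y + w)) = true) : False := by
  have h := ck_true
  rw [ck, List.all_eq_true] at h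
  have h1 := h _ (mem_gl hx)
  rw [List.all_eq_true] at h1
  have h2 := h1 _ (mem_gl hy)
  have ne : ∀ {a b : W8}, gd (code (a + b)) = true → code a ≠ code b := by
    intro a b hab he
    rw [code_add, he, Nat.xor_self] at hab
    simp [gd] at hab
  rw [Bool.or_eq_true, Bool.or_eq_true, beq_iff_eq, ← code_add, hxy] at h2
  have h3 := h2.resolve_left (by
    rintro (h' | h')
    · exact ne hxy h'
    · simp at h')
  rw [List.all_eq_true] at h3
  have h4 := h3 _ (mem_gl hw)
  have e3 : code (x + y + w) = code (x + y) ^^^ code w := code_add _ _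
  simp only [Bool.or_eq_true, beq_iff_eq, ← code_add, hxw, hyw, hxyw, Bool.not_true, Bool.false_eq_true, or_false] at h4
  rcases h4 with (h4 | h4) | h4
  · exact ne hxw h4.symm
  · exact ne hyw h4.symm
  · exact ne hxyw h4.symm

/-- **`|S| ≤ 4`** -/
theorem card_le_four (S : AddSubgroup W8) (hS : ∀ w ∈ S, w ≠ 0 → q8 w = 0 ∧ ¬ ∃ i, w ∈ V8 i) : Nat.card S ≤ 4 := by
  classical
  by_contra hlt
  push Not at hlt
  have hfW : Finite W8 := Nat.finite_of_card_ne_zero (by rw [cardW]; norm_num)
  have hn : (S : Set W8).ncard = Nat.card S := rfl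
  obtain ⟨x, hx, hx0⟩ : ∃ x ∈ (S : Set W8), x ∉ ({0} : Set W8) := by
    refine Set.exists_mem_notMem_of_ncard_lt_ncard ?_ (Set.toFinite _)
    rw [Set.ncard_singleton]; omega
  obtain ⟨y, hy, hy0⟩ : ∃ y ∈ (S : Set W8), y ∉ ({0, x} : Set W8) := by
    refine Set.exists_mem_notMem_of_ncard_lt_ncard ?_ (Set.toFinite _)
    have := Set.ncard_insert_le (0 : W8) {x}
    rw [Set.ncard_singleton] at this
    omega
  obtain ⟨w, hw, hw0⟩ : ∃ w ∈ (S : Set W8), w ∉ ({0, x, y, x + y} : Set W8) := by
    refine Set.exists_mem_notMem_of_ncard_lt_ncard ?_ (Set.toFinite _)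
    have h1 := Set.ncard_insert_le (0 : W8) {x, y, x + y}
    have h2 := Set.ncard_insert_le x {y, x + y}
    have h3 := Set.ncard_insert_le y {x + y}
    rw [Set.ncard_singleton] at h3
    omega
  simp only [Set.mem_singleton_iff, Set.mem_insert_iff, not_or] at hx0 hy0 hw0
  have two := two_W8
  have hne : ∀ {a b : W8}, a ≠ b → a + b ≠ 0 := by
    intro a b hab h
    apply hab
    have := two b
    exact add_right_cancel (h.trans this.symm)
  have hg : ∀ w ∈ S, w ≠ 0 → gd (code w) = true := fun w hw h0 => gd_code (hS w hw h0).1 (hS w hw h0).2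
  refine no_three (hg x hx hx0) (hg y hy hy0.1) (hg w hw hw0.1) (hg _ (S.add_mem hx hy) (hne (Ne.symm hy0.2)))
    (hg _ (S.add_mem hx hw) (hne (Ne.symm hw0.2.1))) (hg _ (S.add_mem hy hw) (hne (Ne.symm hw0.2.2.1)))
    (hg _ (S.add_mem (S.add_mem hx hy) hw) (hne (Ne.symm hw0.2.2.2)))

/-! ### the good vectors of different involutions are different -/

def ckJ : Bool := gl.all fun j => (List.range 8).all fun f => (List.range 8).all fun f' =>
  f == 0 || f' == 0 || f == f' || tL.any fun u => bN u j == 0 || bN u j == f || bN u j == f'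

theorem ckJ_true : ckJ = true := by decide +kernel

theorem J3_disj {f f' : K8} (hf : f ≠ 0) (hf' : f' ≠ 0) {w : W8} (h : w ∈ Cfsg.Agent.Ru127.Xi.J3 R8 f)
    (h' : w ∈ Cfsg.Agent.Ru127.Xi.J3 R8 f') : f = f' := by
  obtain ⟨hw0, hq, hV, hu⟩ := h
  obtain ⟨-, -, -, hu'⟩ := h'
  have hck := ckJ_true
  rw [ckJ, List.all_eq_true] at hck
  have h1 := hck _ (mem_gl (gd_code hq hV))
  rw [List.all_eq_true] at h1
  have h2 := h1 _ (List.mem_range.2 f.val.2)
  rw [List.all_eq_true] at h2
  have h3 := h2 _ (List.mem_range.2 f'.val.2)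
  have hz : ∀ {f : K8}, f ≠ 0 → f.val.val ≠ 0 := fun hf h0 => hf (K8_val_inj h0)
  simp only [Bool.or_eq_true, beq_iff_eq, List.any_eq_true] at h3
  rcases h3 with ((h3 | h3) | h3) | ⟨u, hu1, hu2⟩
  · exact absurd h3 (hz hf)
  · exact absurd h3 (hz hf')
  · exact K8_val_inj h3
  · exfalso
    unfold tL at hu1
    rw [List.mem_filter, List.mem_range] at hu1
    have hT : decode u ≠ 0 ∧ ∃ i, decode u ∈ V8 i := by
      rw [T_iff, code_decode ⟨u, hu1.1⟩]; exact hu1.2
    have hb : (b8 (decode u) w).val.val = bN u (code w) := by rw [code_b, code_decode ⟨u, hu1.1⟩]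
    rcases hu2 with (hu2 | hu2) | hu2
    · exact hu (decode u) (Or.inl (K8_val_inj (by rw [show R8.b (decode u) w = b8 (decode u) w from rfl, hb]; exact hu2))) hT
    · exact hu (decode u) (Or.inr (K8_val_inj (by rw [show R8.b (decode u) w = b8 (decode u) w from rfl, hb]; exact hu2))) hT
    · exact hu' (decode u) (Or.inr (K8_val_inj (by rw [show R8.b (decode u) w = b8 (decode u) w from rfl, hb]; exact hu2))) hT

end Cfsg.Agent.H5.Ru.Fin
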