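import Cfsg.Agent.H5.Ru.Loc
import Cfsg.Agent.H5.Small
import Cfsg.Agent.H5.Row64

/-!
# The 2-local overgroups of a Sylow 2-subgroup and `ℒ(G, T)` (Rudvalis configuration; helper5)

* `exists_inv`: `T ≤ H`, `O₂(H) ≠ 1`: `U = Ω₁(Z(O₂(H)))` is a normal elementary abelian subgroup of `T` containing `z`;
* `overgroup`: `H ≤ N(Z)` or `H ≤ C(z)`;
* `row_nor`, `row_cent`: the members of `ℒ(G, T)`.
-/

set_option autoImplicit false
set_option linter.unusedSectionVars false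

namespace Cfsg.Agent.H5.Ru.Over

open Subgroup Cfsg Cfsg.Agent.Ru127.Form Cfsg.Agent.Ru127.Basic Cfsg.Agent.Ru127.NorD Cfsg.Agent.Ru127.Count
  Cfsg.Agent.Ru127.Five Cfsg.Agent.Ru127.Xi Cfsg.Agent.Ru127.Inst Cfsg.Agent.RuB Cfsg.Agent.KFacts.Ru.InvA
  Cfsg.Agent.QTUniq.Local Cfsg.Agent.H5.Ru.Loc

variable {G : Type*} [Group G] [Finite G] {D : Set G} {𝒵 : Set (Subgroup G)} {T : Sylow 2 G} {Z : Subgroup G} {z : G}
  (c : Ctx D 𝒵 (T : Subgroup G) Z z)
include c

/-- `z ∈ R` for every nontrivial normal subgroup `R ≤ T` of `T` -/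
theorem mem_of_normal {R : Subgroup G} (hR : R ≤ (T : Subgroup G)) (hn : (T : Subgroup G) ≤ normalizer (R : Set G))
    (hne : R ≠ ⊥) : z ∈ R := by
  have hn' : (R.subgroupOf (T : Subgroup G)).Normal := (normal_subgroupOf_iff_le_normalizer hR).2 hn
  have : Fact (Nat.Prime 2) := ⟨Nat.prime_two⟩
  have hnil : Group.IsNilpotent (T : Subgroup G) := T.isPGroup'.isNilpotent
  have hne' : R.subgroupOf (T : Subgroup G) ≠ ⊥ := by
    intro h
    apply hne
    rw [subgroupOf_eq_bot] at h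
    exact h.eq_bot_of_le hR
  obtain ⟨⟨y, hyR, hyc⟩, hy1⟩ := (Subgroup.ne_bot_iff_exists_ne_one).1
    (Lib.NormalAbelian.normal_inf_center_ne_bot _ hne')
  have hy1' : (y : G) ≠ 1 := fun h => hy1 (Subtype.ext (Subtype.ext h))
  have h1 := c.cen y (by
    intro x hx
    have h2 := mem_center_iff.1 hyc ⟨x, hx⟩
    exact congrArg Subtype.val h2)
  rw [← h1.resolve_left hy1']
  exact mem_subgroupOf.1 hyR

theorem exists_inv {H : Subgroup G} (hTH : (T : Subgroup G) ≤ H) (hH : pCore 2 ↥H ≠ ⊥) :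
    Inv (T : Subgroup G) z (H4.Lf.UU H) ∧ H ≤ normalizer (H4.Lf.UU H : Set G) := by
  set R : Subgroup G := (pCore 2 ↥H).map H.subtype with hR
  have hRT : R ≤ (T : Subgroup G) := map_pCore_le_sylow T hTH
  have hHR : H ≤ normalizer (R : Set G) := le_normalizer_map_pCore 2 H
  have hRne : R ≠ ⊥ := map_pCore_ne_bot hH
  have hN : H ≤ normalizer (H4.Lf.UU H : Set G) := hHR.trans (H4.Lf.normalizer_le_omega R)
  refine ⟨⟨?_, hTH.trans hN, ?_, ?_, ?_⟩, hN⟩
  · intro x hx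
    exact hRT (H4.Lf.mem_omega.1 hx).1
  · intro a ha b hb
    exact (H4.Lf.mem_omega.1 hb).2.1 a (H4.Lf.mem_omega.1 ha).1
  · intro a ha
    exact (H4.Lf.mem_omega.1 ha).2.2
  · rw [H4.Lf.mem_omega]
    exact ⟨mem_of_normal c hRT (hTH.trans hHR) hRne, fun r hr => c.comm r (hRT hr), sq_mem c.L c.hZ c.hz⟩

/-- **The 2-local overgroups of `T`.** -/
theorem overgroup (h31 : ¬ 31 ∣ Nat.card G) {H : Subgroup G} (hTH : (T : Subgroup G) ≤ H) (hH : pCore 2 ↥H ≠ ⊥) :
    H ≤ nor Z ∨ H ≤ centralizer {z} := by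
  obtain ⟨hU, hN⟩ := exists_inv c hTH hH
  rcases hU.normalizer_le c h31 with h | h
  · exact Or.inl (hN.trans h)
  · exact Or.inr (hN.trans h)

/-! ### `N(Z)` -/

omit [Finite G] c in
/-- the action on `Z` -/
noncomputable def actZ (Z : Subgroup G) : nor Z →* MulAut Z :=
  (Z.normalizerMonoidHom).comp (inclusion nor_le_normalizer)

omit [Finite G] c in
theorem actZ_ker (Z : Subgroup G) : (actZ Z).ker = (centralizer (Z : Set G)).subgroupOf (nor Z) := by
  ext ⟨x, hx⟩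
  rw [MonoidHom.mem_ker, mem_subgroupOf, mem_centralizer_iff]
  constructor
  · intro h1 y hy
    have h2 := congrArg (fun g : MulAut ↥Z => ((g ⟨y, hy⟩ : ↥Z) : G)) h1
    have h3 : x * y * x⁻¹ = y := h2
    calc y * x = x * y * x⁻¹ * x := by rw [h3]
      _ = x * y := by group
  · intro h1
    ext ⟨y, hy⟩
    show x * y * x⁻¹ = y
    rw [← h1 y hy]; group

theorem card_actZ : Nat.card (actZ Z).range = 168 ∧ IsPGroup 2 (actZ Z).ker := by
  have h1 : Nat.card (actZ Z).ker = 2 ^ 11 := by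
    rw [actZ_ker, Nat.card_congr (subgroupOfEquivOfLe (cent_le_nor Z)).toEquiv, c.card_cent]
  have h2 := (actZ Z).ker.card_mul_index
  rw [Subgroup.index_ker, h1, c.L.norm_card Z c.hZ] at h2
  refine ⟨by omega, IsPGroup.of_card h1⟩

/-- **`ℒ(G, T)` in `N(Z)`** -/
theorem row_nor {L : Subgroup G} (hL : L ∈ calL (T : Subgroup G)) (hM : L ⊔ T ≤ nor Z) :
    L ⊔ T = nor Z ∧ L ⊔ T ≤ normalizer (L : Set G) ∧ Nat.card (L ⧸ pCore 2 L) = 168 ∧
      Nonempty ((L ⧸ pCore 2 L) ≃* Matrix.ProjectiveSpecialLinearGroup (Fin 3) (ZMod 2)) ∧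
      L.subgroupOf (L ⊔ T) = perfectCore ↥(L ⊔ T) := by
  obtain ⟨h1, h2⟩ := card_actZ c
  obtain ⟨h3, h4, h5, h6⟩ := Small.row168 T hL (le_sup_right.trans hM) (le_sup_left.trans hM) (actZ Z) h2
    (by rw [h1])
  refine ⟨?_, h3, h4, h5, h6⟩
  apply eq_of_le_of_card_ge hM
  rw [c.L.norm_card Z c.hZ]
  have h7 : 168 ∣ Nat.card ↥(L ⊔ (T : Subgroup G)) := by
    have h8 := Top.card_eq_mul (X := L)
    rw [h4] at h8
    exact (Dvd.intro _ h8.symm).trans (card_dvd_of_le le_sup_left)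
  have h9 : 2 ^ 14 ∣ Nat.card ↥(L ⊔ (T : Subgroup G)) := by
    have h10 := card_dvd_of_le (le_sup_right : (T : Subgroup G) ≤ L ⊔ T)
    rwa [show Nat.card (T : Subgroup G) = 2 ^ 14 from c.hP] at h10
  have h10 : 2 ^ 14 * 21 ∣ Nat.card ↥(L ⊔ (T : Subgroup G)) :=
    Nat.Coprime.mul_dvd_of_dvd_of_dvd (by norm_num) h9 ((by norm_num : 21 ∣ 168).trans h7)
  exact Nat.le_of_dvd Nat.card_pos h10

/-! ### `C(z)` -/

theorem commute_of_mem {x : G} (hx : x ∈ centralizer ({z} : Set G)) : Commute x z :=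
  ((mem_centralizer_iff.1 hx) z rfl).symm

/-- the action of `C(z)` on `Σ(z)` -/
noncomputable def actS : centralizer ({z} : Set G) →* Equiv.Perm (Sig 𝒵 z) :=
  letI := sigAct c.L z (centralizer {z}) (fun _ hx => commute_of_mem c hx)
  MulAction.toPermHom (centralizer ({z} : Set G)) (Sig 𝒵 z)

theorem actS_apply (g : centralizer ({z} : Set G)) (Y : Sig 𝒵 z) : ((actS c g Y : Sig 𝒵 z) : Subgroup G) = cj (g : G) Y.1 :=
  rfl

theorem actS_ker {g : centralizer ({z} : Set G)} (hg : g ∈ (actS c).ker) {Y : Subgroup G} (hY : Y ∈ 𝒵) (hz : z ∈ Y) :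
    (g : G) ∈ nor Y := by
  have h1 := MonoidHom.mem_ker.1 hg
  have h2 := congrArg (fun f : Equiv.Perm (Sig 𝒵 z) => ((f ⟨Y, hY, hz⟩ : Sig 𝒵 z) : Subgroup G)) h1
  exact h2

/-- `5` divides the order of the image -/
theorem five_dvd : 5 ∣ Nat.card (actS c).range := by
  have h5 := c.h5 Z c.hZ z c.hz c.hz1
  have htr : MulAction.IsPretransitive (actS c).range (Sig 𝒵 z) := by
    refine ⟨fun x y => ?_⟩
    obtain ⟨g, hg, hgx⟩ := trans_sig c.L c.hz1 x.2.1 x.2.2 y.2.1 y.2.2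
    refine ⟨⟨_, ⟨g, mem_centralizer_iff.2 ?_⟩, rfl⟩, Subtype.ext hgx⟩
    rintro w rfl
    exact hg.eq.symm
  have h1 := MulAction.index_stabilizer_of_transitive (actS c).range (⟨Z, c.hZ, c.hz⟩ : Sig 𝒵 z)
  rw [h5] at h1
  rw [← h1]
  exact Subgroup.index_dvd_card _

theorem actS_range_not_solvable (h : ¬ Group.IsSolvable (centralizer ({z} : Set G))) :
    ¬ Group.IsSolvable (actS c).range := by
  intro hs
  have h5 := c.h5 Z c.hZ z c.hz c.hz1
  have hcz := card_cent_z c.L c.hz1 c.hZ c.hz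
  rw [h5] at hcz
  have h1 := (actS c).ker.card_mul_index
  rw [Subgroup.index_ker, hcz] at h1
  obtain ⟨k, hk⟩ := five_dvd c
  have h2 : Nat.card (actS c).ker ∣ 2 ^ 14 * 3 ^ 1 := by
    rw [hk] at h1
    have h3 : Nat.card (actS c).ker * k = 2 ^ 14 * 3 := by
      have h4 : 5 * (Nat.card (actS c).ker * k) = 5 * (2 ^ 14 * 3) := by
        rw [← h1]; ring
      exact Nat.eq_of_mul_eq_mul_left (by norm_num) h4
    exact Dvd.intro _ h3
  have h3 := GH.C2SevenTop.solvable_of_dvd Nat.prime_two Nat.prime_three h2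
  apply h
  exact Group.isSolvable_of_ker_le_range (actS c).ker.subtype (actS c).rangeRestrict
    (by rw [MonoidHom.ker_rangeRestrict, Subgroup.range_subtype])

/-- the kernel of the action on `Σ(z)` -/
theorem actS_ker_card (h : ¬ Group.IsSolvable (centralizer ({z} : Set G))) :
    Nat.card (actS c).ker = 2 ^ 12 ∨ Nat.card (actS c).ker = 2 ^ 11 := by
  classical
  have h5 := c.h5 Z c.hZ z c.hz c.hz1
  have hcz := card_cent_z c.L c.hz1 c.hZ c.hz
  rw [h5] at hcz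
  have h1 := (actS c).ker.card_mul_index
  rw [Subgroup.index_ker, hcz] at h1
  let _ : Fintype (Sig 𝒵 z) := Fintype.ofFinite _
  have h5' : Fintype.card (Sig 𝒵 z) = 5 := by rw [← Nat.card_eq_fintype_card, h5]
  have hA := Small.alt_le h5' (actS_range_not_solvable c h)
  have h2 : Nat.card (alternatingGroup (Sig 𝒵 z)) = 60 := by
    have e : alternatingGroup (Sig 𝒵 z) ≃* alternatingGroup (Fin 5) := Equiv.altCongrHom (Fintype.equivFinOfCardEq h5')
    rw [Nat.card_congr e.toEquiv, Nat.card_eq_fintype_card, card_alternatingGroup, Fintype.card_fin]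
    rfl
  have h3 : 60 ∣ Nat.card (actS c).range := h2 ▸ card_dvd_of_le hA
  have h4 : Nat.card (actS c).range ∣ 120 := by
    have h6 : Nat.card (Equiv.Perm (Sig 𝒵 z)) = 120 := by
      rw [Nat.card_eq_fintype_card, Fintype.card_perm, h5']; rfl
    rw [← h6]
    exact card_subgroup_dvd_card _
  obtain ⟨k, hk⟩ := h3
  rw [hk] at h4 h1
  have h7 : k ∣ 2 := (Nat.mul_dvd_mul_iff_left (by norm_num : 0 < 60)).1 h4
  have h8 := Nat.le_of_dvd (by norm_num) h7
  have h9 : k ≠ 0 := by rintro rfl; norm_num at h7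
  obtain rfl | rfl : k = 1 ∨ k = 2 := by omega
  · left; omega
  · right; omega

/-- **`ℒ(G, T)` in `C(z)`** -/
theorem row_cent {L : Subgroup G} (hL : L ∈ calL (T : Subgroup G)) (hM : L ⊔ T ≤ centralizer {z}) :
    L ⊔ T = centralizer {z} ∧ L ⊔ T ≤ normalizer (L : Set G) ∧
      Nonempty ((L ⧸ pCore 2 L) ≃* alternatingGroup (Fin 5)) ∧
      L.subgroupOf (L ⊔ T) = perfectCore ↥(L ⊔ T) := by
  classical
  have h5 := c.h5 Z c.hZ z c.hz c.hz1
  let _ : Fintype (Sig 𝒵 z) := Fintype.ofFinite _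
  have h5' : Fintype.card (Sig 𝒵 z) = 5 := by rw [← Nat.card_eq_fintype_card, h5]
  have hns := Small.not_solvable_of_le hL (le_sup_left.trans hM)
  have hker : IsPGroup 2 (actS c).ker := by
    rcases actS_ker_card c hns with h | h <;> exact IsPGroup.of_card h
  obtain ⟨h1, ⟨e⟩, h3, -⟩ := Small.rowFive T hL (le_sup_right.trans hM) (le_sup_left.trans hM) h5' (actS c) hker
  refine ⟨?_, h1, ⟨e⟩, h3⟩
  apply eq_of_le_of_card_ge hM
  rw [card_cent_z c.L c.hz1 c.hZ c.hz, h5]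
  have h7 : 60 ∣ Nat.card ↥(L ⊔ (T : Subgroup G)) := by
    have h8 := Top.card_eq_mul (X := L)
    have h9 : Nat.card (L ⧸ pCore 2 L) = 60 := by
      rw [Nat.card_congr e.toEquiv, Nat.card_eq_fintype_card, card_alternatingGroup, Fintype.card_fin]
      rfl
    rw [h9] at h8
    exact (Dvd.intro _ h8.symm).trans (card_dvd_of_le le_sup_left)
  have h9 : 2 ^ 14 ∣ Nat.card ↥(L ⊔ (T : Subgroup G)) := by
    have h10 := card_dvd_of_le (le_sup_right : (T : Subgroup G) ≤ L ⊔ T)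
    rwa [show Nat.card (T : Subgroup G) = 2 ^ 14 from c.hP] at h10
  have h10 : 2 ^ 14 * 15 ∣ Nat.card ↥(L ⊔ (T : Subgroup G)) :=
    Nat.Coprime.mul_dvd_of_dvd_of_dvd (by norm_num) h9 ((by norm_num : 15 ∣ 60).trans h7)
  have h11 := Nat.le_of_dvd Nat.card_pos h10
  omega

/-! ### `ℒ_f(G, T)` -/

theorem card_cz : Nat.card (centralizer ({z} : Set G)) = 5 * (2 ^ 14 * 3) := by
  rw [card_cent_z c.L c.hz1 c.hZ c.hz, c.h5 Z c.hZ z c.hz c.hz1]

/-- `C(z)` does not normalise `Z` -/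
theorem not_cz_le : ¬ centralizer ({z} : Set G) ≤ nor Z := by
  intro h
  have h1 := card_dvd_of_le h
  rw [card_cz c, c.L.norm_card Z c.hZ] at h1
  norm_num at h1

/-- `|C(Z) ∩ C(u)| ≤ 2^8` for `u ∈ C(Z) \ Z` -/
theorem card_cent_le {u : G} (hu : u ∈ centralizer (Z : Set G)) (huZ : u ∉ Z) :
    Nat.card (centralizer (Z : Set G) ⊓ centralizer {u} : Subgroup G) ≤ 2 ^ 8 := by
  obtain ⟨π, ζ, cc⟩ := c.L.coord Z c.hZ
  have h1 := card_conj_mul (centralizer (Z : Set G)) u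
  rw [c.card_cent] at h1
  have hπ : π u ≠ 0 := fun h0 => huZ ((cc.π_ker u hu).1 h0)
  have h2 : Nat.card K8 ≤ Nat.card {y : G // ∃ h ∈ centralizer (Z : Set G), h * u * h⁻¹ = y} := by
    refine Nat.card_le_card_of_injective (fun f => ⟨u * ζ f, ?_⟩) ?_
    · obtain ⟨w, hw⟩ := R8.q1 (π u) hπ f
      obtain ⟨x, hx, rfl⟩ := cc.π_surj w
      have h3 := cc.comm u hu x hx
      rw [hw] at h3
      refine ⟨x⁻¹, inv_mem hx, ?_⟩
      rw [← h3]; group
    · intro f f' h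
      exact cc.ζ_inj (mul_left_cancel (Subtype.mk.inj h))
  rw [K8.natCard] at h2
  by_contra hlt
  push Not at hlt
  have h4 := Nat.mul_le_mul h2 (Nat.succ_le_of_lt hlt)
  rw [h1] at h4
  norm_num at h4

/-- **`⟨L, T⟩ ≰ C(z)` for `L ∈ ℒ_f(G, T)`** -/
theorem not_cent (hE : IsOfEvenCharacteristic G) {L : Subgroup G} (hL : L ∈ calLf (T : Subgroup G)) :
    ¬ L ⊔ T ≤ centralizer {z} := by
  intro hM
  obtain ⟨heq, -, -, -⟩ := row_cent c hL.1 hM
  have hTH : (T : Subgroup G) ≤ L ⊔ T := le_sup_right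
  obtain ⟨hU, hN⟩ := exists_inv c hTH (H4.Lf.oTwo_ne hL.1)
  have hnc := H4.Lf.not_le_centralizer le_sup_left (H4.Lf.subnormal hL.1) (H4.Lf.odd_gen hL)
    (charTwo_of_over hE T hTH (H4.Lf.oTwo_ne hL.1)) hL.2.2
  set H : Subgroup G := L ⊔ T with hH
  have hnor : ¬ normalizer (H4.Lf.UU H : Set G) ≤ nor Z := fun h => not_cz_le c (heq ▸ hN.trans h)
  rcases hU.cases c with h | h
  · by_cases hj : ∀ j ∈ H4.Lf.UU H, j = 1 ∨ j = z
    · apply hnc
      intro x hx
      rw [mem_centralizer_iff]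
      intro j hj'
      rcases hj j hj' with rfl | rfl
      · rw [one_mul, mul_one]
      · exact ((mem_centralizer_iff.1 (hM (mem_sup_left hx))) _ rfl)
    · push Not at hj
      obtain ⟨j, hj, hj1, hjz⟩ := hj
      apply hnor
      intro g hg
      have h1 : ∀ u ∈ H4.Lf.UU H, u ∈ cj g Z := by
        intro u hu
        rw [mem_cj]
        apply h
        have h2 := (mem_normalizer_iff.1 (inv_mem hg) u).1 hu
        rwa [inv_inv] at h2
      rw [mem_nor]
      exact eq_of_mem c.L c.hz1 (c.L.Z_conj _ c.hZ g) (h1 z hU.mem) c.hZ c.hz (h1 j hj) (h hj) hj1 hjz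
  · -- `U = ⋃ Σ(z)`
    obtain ⟨g0, hg0, hgne⟩ : ∃ g ∈ normalizer (H4.Lf.UU H : Set G), cj g Z ≠ Z := by
      by_contra hcon
      push Not at hcon
      exact hnor hcon
    have hcjU : cj g0 Z ≤ H4.Lf.UU H := by
      intro x hx
      rw [mem_cj] at hx
      have h1 := (mem_normalizer_iff.1 hg0 _).1 (h hx)
      have e : g0 * (g0⁻¹ * x * g0) * g0⁻¹ = x := by group
      rwa [e] at h1
    have hne' : ¬ H4.Lf.UU H ≤ Z := fun h' =>
      hgne (eq_of_le c.L (c.L.Z_conj _ c.hZ g0) c.hZ (hcjU.trans h'))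
    obtain ⟨u, hu, huZ⟩ := SetLike.not_le_iff_exists.1 hne'
    have huc := hU.le_cent c hu
    -- the kernel on `Σ(z)`
    set K : Subgroup G := ((actS c).ker).map (centralizer ({z} : Set G)).subtype with hK
    have hns := Small.not_solvable_of_le hL.1 (le_sup_left.trans hM)
    have hKc : 2 ^ 11 ≤ Nat.card K := by
      rw [hK, Nat.card_congr ((actS c).ker.equivMapOfInjective _ (subtype_injective _)).toEquiv.symm]
      rcases actS_ker_card c hns with h | h <;> rw [h] <;> norm_num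
    have hK2 : IsPGroup 2 K := by
      have h1 : IsPGroup 2 (actS c).ker := by
        rcases actS_ker_card c hns with h | h <;> exact IsPGroup.of_card h
      exact h1.map _
    have hKH : K ≤ H := by
      rw [heq]; exact map_subtype_le _
    have hHK : H ≤ normalizer (K : Set G) := by
      rw [heq]
      have h1 : (K.subgroupOf (centralizer ({z} : Set G))).Normal := by
        have h2 : K.subgroupOf (centralizer ({z} : Set G)) = (actS c).ker := by
          rw [hK, Subgroup.subgroupOf, Subgroup.comap_map_eq_self_of_injective (subtype_injective _)]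
        rw [h2]; infer_instance
      exact (normal_subgroupOf_iff_le_normalizer (map_subtype_le _)).1 h1
    have hKR := le_map_pCore hKH hK2 hHK
    have hKle : K ≤ (centralizer (Z : Set G) ⊓ centralizer {u} : Subgroup G) := by
      intro x hx
      have hxR := hKR hx
      refine mem_inf.2 ⟨?_, ?_⟩
      · rw [mem_centralizer_iff]
        intro y hy
        exact ((H4.Lf.mem_omega.1 (h hy)).2.1 x hxR).symm
      · rw [mem_centralizer_singleton_iff]
        exact (H4.Lf.mem_omega.1 hu).2.1 x hxR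
    have h1 := Nat.card_le_card_of_injective _ (inclusion_injective hKle)
    have h2 := card_cent_le c huc huZ
    have h3 := hKc.trans (h1.trans h2)
    norm_num at h3

/-- **`ℒ_f(G, T)`** -/
theorem row_lf (h31 : ¬ 31 ∣ Nat.card G) (hE : IsOfEvenCharacteristic G) {L : Subgroup G}
    (hL : L ∈ calLf (T : Subgroup G)) :
    L ⊔ T = nor Z ∧ L ⊔ T ≤ normalizer (L : Set G) ∧ Nat.card (L ⧸ pCore 2 L) = 168 ∧
      Nonempty ((L ⧸ pCore 2 L) ≃* Matrix.ProjectiveSpecialLinearGroup (Fin 3) (ZMod 2)) ∧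
      L ∈ calLfMax (T : Subgroup G) := by
  have hn := not_cent c hE hL
  have hM := (overgroup c h31 (le_sup_right : (T : Subgroup G) ≤ L ⊔ T) (H4.Lf.oTwo_ne hL.1)).resolve_right hn
  obtain ⟨h1, h2, h3, h4, h5⟩ := row_nor c hL.1 hM
  refine ⟨h1, h2, h3, h4, ⟨hL.1, fun M hMc hLM => ?_⟩, hL.2⟩
  have hsup : L ⊔ (T : Subgroup G) ≤ M ⊔ T := sup_le_sup_right hLM T
  have hM2 := (overgroup c h31 (le_sup_right : (T : Subgroup G) ≤ M ⊔ T) (H4.Lf.oTwo_ne hMc)).resolve_right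
    (fun h => hn (hsup.trans h))
  obtain ⟨k1, -, -, -, k5⟩ := row_nor c hMc hM2
  have e1 : (perfectCore ↥(L ⊔ (T : Subgroup G))).map (L ⊔ (T : Subgroup G)).subtype = L := by
    rw [← h5, subgroupOf_map_subtype, inf_eq_left.2 le_sup_left]
  have e2 : (perfectCore ↥(M ⊔ (T : Subgroup G))).map (M ⊔ (T : Subgroup G)).subtype = M := by
    rw [← k5, subgroupOf_map_subtype, inf_eq_left.2 le_sup_left]
  rw [← e1, ← e2, k1, h1]

/-- **`ℒ(G, T)`** -/
theorem row_all (h31 : ¬ 31 ∣ Nat.card G) {L : Subgroup G} (hL : L ∈ calL (T : Subgroup G)) :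
    L ⊔ T ≤ normalizer (L : Set G) ∧
      ((L ⊔ T = nor Z ∧ Nat.card (L ⧸ pCore 2 L) = 168 ∧
        Nonempty ((L ⧸ pCore 2 L) ≃* Matrix.ProjectiveSpecialLinearGroup (Fin 3) (ZMod 2))) ∨
      (L ⊔ T = centralizer {z} ∧ Nonempty ((L ⧸ pCore 2 L) ≃* alternatingGroup (Fin 5)))) := by
  rcases overgroup c h31 (le_sup_right : (T : Subgroup G) ≤ L ⊔ T) (H4.Lf.oTwo_ne hL) with h | h
  · obtain ⟨h1, h2, h3, h4, -⟩ := row_nor c hL h
    exact ⟨h2, Or.inl ⟨h1, h3, h4⟩⟩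
  · obtain ⟨h1, h2, h3, -⟩ := row_cent c hL h
    exact ⟨h2, Or.inr ⟨h1, h3⟩⟩

end Cfsg.Agent.H5.Ru.Over
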